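import Groth.Agent.FibreDim.FieldExt

/-! Auxiliary facts for the generic translation lemmas. -/

set_option autoImplicit false

universe u v

open MvPolynomial

namespace Groth.MovLem71

theorem exists_aeval_eq_zero {k B : Type u} [Field k] [CommRing B] [Algebra k B] [Algebra.FiniteType k B] {r : ℕ}
    (hdim : ringKrullDim B < r) (u : Fin r → B) : ∃ h : MvPolynomial (Fin r) k, h ≠ 0 ∧ aeval u h = 0 := by
  classical
  haveI : IsNoetherianRing B := Algebra.FiniteType.isNoetherianRing k B
  have hker : ∀ q ∈ minimalPrimes B, ∃ h : MvPolynomial (Fin r) k, h ≠ 0 ∧ aeval u h ∈ q := by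
    intro q hq
    haveI := hq.1.1
    by_contra hne
    push Not at hne
    have hind : AlgebraicIndependent k fun i => algebraMap (B ⧸ q) (FractionRing (B ⧸ q)) (Ideal.Quotient.mk q (u i)) := by
      rw [algebraicIndependent_iff]
      intro h hh
      by_contra h0
      refine hne h h0 (Ideal.Quotient.eq_zero_iff_mem.1 (IsFractionRing.injective (B ⧸ q) (FractionRing (B ⧸ q)) ?_))
      rw [map_zero, ← hh]
      exact (AlgHom.congr_fun (MvPolynomial.comp_aeval (f := u) ((IsScalarTower.toAlgHom k (B ⧸ q) (FractionRing (B ⧸ q))).comp (Ideal.Quotient.mkₐ k q))) h)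
    haveI : Algebra.FiniteType k (B ⧸ q) := Algebra.FiniteType.of_surjective (Ideal.Quotient.mkₐ k q) Ideal.Quotient.mk_surjective
    obtain ⟨n, h1, h2, -⟩ := Groth.Variety2.Dim.exists_dim k (B ⧸ q)
    have hrn : (r : Cardinal.{u}) ≤ n := by
      have := hind.lift_cardinalMk_le_trdeg
      rw [h1, Cardinal.mk_fin] at this
      simpa using this
    have hle : (n : WithBot ℕ∞) < r := h2 ▸ lt_of_le_of_lt (ringKrullDim_quotient_le q) hdim
    have hn : n < r := by exact_mod_cast hle
    have : r ≤ n := by exact_mod_cast hrn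
    omega
  choose h h0 hmem using hker
  have hfin := minimalPrimes.finite_of_isNoetherianRing B
  let P := ∏ q : hfin.toFinset, h q.1 (hfin.mem_toFinset.1 q.2)
  have hP : IsNilpotent (aeval u P) := by
    rw [← mem_nilradical, nilradical, ← Ideal.sInf_minimalPrimes, Ideal.mem_sInf]
    intro q hq
    rw [map_prod]
    exact q.prod_mem (Finset.mem_univ (⟨q, hfin.mem_toFinset.2 hq⟩ : hfin.toFinset)) (hmem q hq)
  obtain ⟨N, hN⟩ := hP
  exact ⟨P ^ N, pow_ne_zero _ (Finset.prod_ne_zero_iff.2 fun q _ => h0 _ _), by rw [map_pow]; exact hN⟩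

theorem exists_map_multiple {σ : Type*} {k F : Type u} [Field k] [Field F] [Algebra k F] [Algebra.IsAlgebraic k F]
    (H : MvPolynomial σ F) (hH : H ≠ 0) :
    ∃ (h : MvPolynomial σ k) (c : MvPolynomial σ F), h ≠ 0 ∧ MvPolynomial.map (algebraMap k F) h = H * c := by
  letI := (MvPolynomial.map (σ := σ) (algebraMap k F)).toAlgebra
  haveI : Algebra.IsIntegral (MvPolynomial σ k) (MvPolynomial σ F) := ⟨fun x => by
    induction x using MvPolynomial.induction_on with
    | C a =>
      obtain ⟨P, hP, hPa⟩ : IsIntegral k a := (Algebra.IsAlgebraic.isAlgebraic a).isIntegral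
      refine ⟨P.map C, hP.map C, ?_⟩
      rw [Polynomial.eval₂_map, show (algebraMap (MvPolynomial σ k) (MvPolynomial σ F)).comp C = (C : F →+* _).comp (algebraMap k F) from
        RingHom.ext fun r => map_C (algebraMap k F) r, ← Polynomial.hom_eval₂, hPa, map_zero]
    | add p q hp hq => exact hp.add hq
    | mul_X p n hp => exact hp.mul (isIntegral_algebraMap (x := (X n : MvPolynomial σ k)) |> fun h => map_X (algebraMap k F) n ▸ h)⟩
  have hne : (Ideal.span {H}).comap (algebraMap (MvPolynomial σ k) (MvPolynomial σ F)) ≠ ⊥ := fun h =>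
    hH (Ideal.span_singleton_eq_bot.1 (Ideal.eq_bot_of_comap_eq_bot h))
  obtain ⟨h, hh, h0⟩ := Submodule.exists_mem_ne_zero_of_ne_bot hne
  obtain ⟨c, hc⟩ := Ideal.mem_span_singleton.1 hh
  exact ⟨h, c, h0, hc⟩

theorem exists_root_map {k F L : Type*} [Field k] [Field F] [Field L] [Algebra k F] [Algebra k L] [IsAlgClosed F]
    (σ : F →ₐ[k] L) {m : Polynomial k} (hm : m ≠ 0) (a : L) (ha : Polynomial.aeval a m = 0) :
    ∃ b ∈ (m.map (algebraMap k F)).roots, σ b = a := by
  have h : (m.map (algebraMap k L)).roots = (m.map (algebraMap k F)).roots.map σ := by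
    rw [← σ.comp_algebraMap, ← Polynomial.map_map]
    exact (IsAlgClosed.splits (m.map (algebraMap k F))).roots_map σ.toRingHom
  have : a ∈ (m.map (algebraMap k L)).roots := by
    rw [Polynomial.mem_roots (Polynomial.map_ne_zero hm), Polynomial.IsRoot.def, Polynomial.eval_map_algebraMap]
    exact ha
  rw [h, Multiset.mem_map] at this
  exact this

theorem exists_minpoly_mem {k : Type u} [Field k] {r : ℕ} (P : Ideal (MvPolynomial (Fin r) k)) (hP : P.IsMaximal) (i : Fin r) :
    ∃ m : Polynomial k, m ≠ 0 ∧ Polynomial.aeval (X i : MvPolynomial (Fin r) k) m ∈ P := by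
  letI := Ideal.Quotient.field P
  haveI : Module.Finite k (MvPolynomial (Fin r) k ⧸ P) :=
    finite_of_finite_type_of_isJacobsonRing k (MvPolynomial (Fin r) k ⧸ P)
  have hint : IsIntegral k (Ideal.Quotient.mkₐ k P (X i)) := Algebra.IsIntegral.isIntegral _
  refine ⟨minpoly k (Ideal.Quotient.mkₐ k P (X i)), minpoly.ne_zero hint, ?_⟩
  rw [← Ideal.Quotient.eq_zero_iff_mem, ← Ideal.Quotient.mkₐ_eq_mk k, ← Polynomial.aeval_algHom_apply, minpoly.aeval]

end Groth.MovLem71
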